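import Mathlib

set_option autoImplicit false
universe u

namespace Groth.Agent.Lib.Helper5.ProjClopen

variable {R B : Type u} [CommRing R] [CommRing B] [Algebra R B]

theorem coords_mem_of_mem_map (s : B →ₗ[R] B →₀ R) (K : Ideal R) (b : B)
    (hb : b ∈ K.map (algebraMap R B)) : ∀ x, s b x ∈ K := by
  have hb' : b ∈ (K • (⊤ : Submodule R B)) := by
    rw [Ideal.smul_top_eq_map]; exact hb
  refine Submodule.smul_induction_on hb' ?_ ?_
  · intro k hk b' _ x
    rw [map_smul, Finsupp.smul_apply, smul_eq_mul]
    exact K.mul_mem_right _ hk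
  · intro b₁ b₂ h₁ h₂ x
    rw [map_add, Finsupp.add_apply]
    exact K.add_mem (h₁ x) (h₂ x)

theorem mem_map_of_coords_mem (s : B →ₗ[R] B →₀ R)
    (hs : Finsupp.linearCombination R id ∘ₗ s = LinearMap.id) (K : Ideal R) (b : B)
    (hb : ∀ x, s b x ∈ K) : b ∈ K.map (algebraMap R B) := by
  have h1 : b = Finsupp.linearCombination R id (s b) := by
    have := LinearMap.congr_fun hs b
    simpa using this.symm
  rw [h1, Finsupp.linearCombination_apply, Finsupp.sum]
  refine Ideal.sum_mem _ fun x _ => ?_
  rw [id, Algebra.smul_def]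
  exact Ideal.mul_mem_right _ _ (Ideal.mem_map_of_mem _ (hb x))

theorem main5343 [Module.Projective R B] :
    IsClopen (Set.range (PrimeSpectrum.comap (algebraMap R B))) := by
  classical
  obtain ⟨s, hs⟩ := (Module.projective_def' (R := R) (P := B)).mp inferInstance
  set c : B →₀ R := s 1 with hc
  set J : Ideal R := Ideal.span ((c.support.image c : Finset R) : Set R) with hJ
  have hJfg : J.FG := ⟨c.support.image c, rfl⟩
  have hcJ : ∀ x, c x ∈ J := by
    intro x
    by_cases hx : x ∈ c.support
    · exact Ideal.subset_span (Finset.mem_coe.mpr (Finset.mem_image_of_mem _ hx))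
    · rw [Finsupp.notMem_support_iff.mp hx]; exact J.zero_mem
  have h1J : (1 : B) ∈ J.map (algebraMap R B) := mem_map_of_coords_mem s hs J 1 hcJ
  -- J is idempotent
  have hJJ : J ≤ J * J := by
    have h1JJ : (1 : B) ∈ (J * J).map (algebraMap R B) := by
      rw [Ideal.map_mul]
      have := Ideal.mul_mem_mul h1J h1J
      rwa [one_mul] at this
    have hcJJ := coords_mem_of_mem_map s (J * J) 1 h1JJ
    rw [hJ, Ideal.span_le]
    intro y hy
    rw [Finset.mem_coe, Finset.mem_image] at hy
    obtain ⟨x, _, rfl⟩ := hy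
    exact hcJJ x
  have hidem : IsIdempotentElem J := le_antisymm Ideal.mul_le_right hJJ
  obtain ⟨e, he, hJe⟩ := (Ideal.isIdempotentElem_iff_of_fg J hJfg).mp hidem
  have heJ : e ∈ J := by rw [hJe]; exact Ideal.mem_span_singleton_self e
  have hce : ∀ x, (1 - e) * c x = 0 := by
    intro x
    have := hcJ x
    rw [hJe, Ideal.mem_span_singleton'] at this
    obtain ⟨r, hr⟩ := this
    rw [← hr]
    have : (1 - e) * (r * e) = r * (e - e * e) := by ring
    rw [this, he.eq, sub_self, mul_zero]
  have hker : algebraMap R B (1 - e) = 0 := by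
    have h2 : s ((1 - e) • (1 : B)) = 0 := by
      rw [map_smul]
      ext x
      rw [Finsupp.smul_apply, smul_eq_mul, Finsupp.zero_apply]
      exact hce x
    have h3 := LinearMap.congr_fun hs ((1 - e) • (1 : B))
    rw [LinearMap.comp_apply, h2, map_zero, LinearMap.id_apply] at h3
    rw [Algebra.algebraMap_eq_smul_one]
    exact h3.symm
  rw [PrimeSpectrum.isClopen_iff]
  refine ⟨e, he, ?_⟩
  ext p
  constructor
  · rintro ⟨q, rfl⟩
    change e ∉ (PrimeSpectrum.comap (algebraMap R B) q).asIdeal
    intro hmem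
    have h1 : (1 - e) ∈ (PrimeSpectrum.comap (algebraMap R B) q).asIdeal := by
      change algebraMap R B (1 - e) ∈ q.asIdeal
      rw [hker]; exact q.asIdeal.zero_mem
    have : (1 : R) ∈ (PrimeSpectrum.comap (algebraMap R B) q).asIdeal := by
      have := Ideal.add_mem _ hmem h1
      rwa [add_sub_cancel] at this
    exact (PrimeSpectrum.comap (algebraMap R B) q).isPrime.ne_top
      ((Ideal.eq_top_iff_one _).mpr this)
  · intro hp
    have hep : e ∉ p.asIdeal := hp
    rw [PrimeSpectrum.mem_range_comap_iff]
    apply le_antisymm _ Ideal.le_comap_map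
    intro r hr
    rw [Ideal.mem_comap] at hr
    have h4 := coords_mem_of_mem_map s p.asIdeal _ hr
    have h5 : ∀ x, r * c x ∈ p.asIdeal := by
      intro x
      have := h4 x
      rw [Algebra.algebraMap_eq_smul_one, map_smul, Finsupp.smul_apply, smul_eq_mul] at this
      exact this
    have h7 : ∀ y ∈ J, r * y ∈ p.asIdeal := by
      intro y hy
      rw [hJ] at hy
      refine Submodule.span_induction ?_ ?_ ?_ ?_ hy
      · intro z hz
        rw [Finset.mem_coe, Finset.mem_image] at hz
        obtain ⟨x, _, rfl⟩ := hz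
        exact h5 x
      · rw [mul_zero]; exact p.asIdeal.zero_mem
      · intro a b _ _ ha hb
        rw [mul_add]; exact p.asIdeal.add_mem ha hb
      · intro a b _ hb
        rw [smul_eq_mul, mul_left_comm]
        exact p.asIdeal.mul_mem_left _ hb
    have h8 := h7 e heJ
    exact (p.isPrime.mem_or_mem h8).resolve_right hep

end Groth.Agent.Lib.Helper5.ProjClopen
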